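import Mathlib

/-!
Counting conjugacy classes of `π`-elements against the `π`-part of the group order.
-/

set_option autoImplicit false

open Subgroup

namespace CfsgLib.ClassCount

universe u

/-- Every prime divisor of the order of `x` lies in `π`. -/
def IsPiEl (π : Set ℕ) {G : Type u} [Group G] (x : G) : Prop :=
  ∀ r : ℕ, r.Prime → r ∣ orderOf x → r ∈ π

/-- The classes of `π`-elements. -/
abbrev PiClasses (π : Set ℕ) (G : Type u) [Group G] : Type u :=
  {c : ConjClasses G // ∀ x ∈ c.carrier, IsPiEl π x}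

lemma orderOf_conj_eq {G : Type u} [Group G] (g x : G) : orderOf (g * x * g⁻¹) = orderOf x := by
  have := (MulAut.conj g).orderOf_eq x
  simpa using this

lemma isPiEl_of_isConj {G : Type u} [Group G] {π : Set ℕ} {x y : G} (h : IsConj x y)
    (hx : IsPiEl π x) : IsPiEl π y := by
  obtain ⟨g, rfl⟩ := isConj_iff.mp h
  intro r hr hd
  exact hx r hr (by rwa [orderOf_conj_eq] at hd)

lemma mk_prop {G : Type u} [Group G] {π : Set ℕ} {x : G} (hx : IsPiEl π x) :
    ∀ y ∈ (ConjClasses.mk x).carrier, IsPiEl π y := by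
  intro y hy
  rw [ConjClasses.mem_carrier_iff_mk_eq, ConjClasses.mk_eq_mk_iff_isConj] at hy
  exact isPiEl_of_isConj hy.symm hx

lemma isPiEl_singleton_iff {G : Type u} [Group G] [Finite G] {r : ℕ} (hr : r.Prime) {x : G} :
    IsPiEl ({r} : Set ℕ) x ↔ ∃ k : ℕ, orderOf x = r ^ k := by
  constructor
  · intro h
    exact ⟨_, Nat.eq_prime_pow_of_unique_prime_dvd (orderOf_pos x).ne'
      (fun hq hd => h _ hq hd)⟩
  · rintro ⟨k, hk⟩ q hq hd
    rw [hk] at hd
    exact (Nat.prime_dvd_prime_iff_eq hq hr).mp (hq.dvd_of_dvd_pow hd)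

lemma card_piClasses_singleton {G : Type u} [Group G] [Finite G] {r : ℕ} (hr : r.Prime) :
    Nat.card (PiClasses ({r} : Set ℕ) G) =
      Nat.card {c : ConjClasses G // ∀ x ∈ c.carrier, ∃ k : ℕ, orderOf x = r ^ k} :=
  Nat.card_congr (Equiv.subtypeEquivRight fun _ =>
    forall₂_congr fun _ _ => isPiEl_singleton_iff hr)

/-- Split a `π`-element into commuting `r`-part and `π \ {r}`-part. -/
lemma exists_split {G : Type u} [Group G] [Finite G] {π : Set ℕ} {r : ℕ} (hr : r.Prime) {g : G}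
    (hg : IsPiEl π g) :
    ∃ x y : G, x * y = g ∧ Commute x y ∧ IsPiEl ({r} : Set ℕ) x ∧ IsPiEl (π \ {r}) y := by
  obtain ⟨a, m, hm, hn⟩ := Nat.exists_eq_pow_mul_and_not_dvd (orderOf_pos g).ne' r hr.ne_one
  have hcop : Nat.Coprime (r ^ a) m := Nat.Coprime.pow_left a ((hr.coprime_iff_not_dvd).mpr hm)
  have hb : ((r ^ a : ℕ) : ℤ) * Nat.gcdA (r ^ a) m + (m : ℤ) * Nat.gcdB (r ^ a) m = 1 := by
    rw [← Nat.gcd_eq_gcd_ab, hcop.gcd_eq_one]; rfl
  set u := Nat.gcdA (r ^ a) m
  set v := Nat.gcdB (r ^ a) m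
  refine ⟨g ^ ((m : ℤ) * v), g ^ (((r ^ a : ℕ) : ℤ) * u), ?_, ?_, ?_, ?_⟩
  · rw [← zpow_add, add_comm, hb, zpow_one]
  · exact Commute.zpow_zpow (Commute.refl g) _ _
  · intro q hq hd
    have h1 : orderOf (g ^ ((m : ℤ) * v)) ∣ r ^ a := by
      apply orderOf_dvd_of_pow_eq_one
      rw [← zpow_natCast, ← zpow_mul]
      apply orderOf_dvd_iff_zpow_eq_one.mp
      rw [hn]
      exact ⟨v, by push_cast; ring⟩
    exact (Nat.prime_dvd_prime_iff_eq hq hr).mp (hq.dvd_of_dvd_pow (hd.trans h1))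
  · intro q hq hd
    have h1 : orderOf (g ^ (((r ^ a : ℕ) : ℤ) * u)) ∣ m := by
      apply orderOf_dvd_of_pow_eq_one
      rw [← zpow_natCast, ← zpow_mul]
      apply orderOf_dvd_iff_zpow_eq_one.mp
      rw [hn]
      exact ⟨u, by push_cast; ring⟩
    refine ⟨hg q hq ?_, ?_⟩
    · rw [hn]; exact Dvd.dvd.mul_left (hd.trans h1) _
    · rintro rfl
      exact hm (hd.trans h1)

lemma isPiEl_mul {G : Type u} [Group G] [Finite G] {π : Set ℕ} {x y : G} (h : Commute x y)
    (hx : IsPiEl π x) (hy : IsPiEl π y) : IsPiEl π (x * y) := by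
  intro q hq hd
  rcases (Nat.Prime.dvd_mul hq).mp (hd.trans h.orderOf_mul_dvd_mul_orderOf) with h' | h'
  · exact hx q hq h'
  · exact hy q hq h'

/-- `k_π(G) ≤ Σ_c k_{π \ r}(C(x_c))`, in the form of a bound. -/
lemma card_piClasses_le_mul {G : Type u} [Group G] [Finite G] {π : Set ℕ} {r : ℕ} (hr : r.Prime)
    (B : ℕ) (hB : ∀ x : G, Nat.card (PiClasses (π \ {r}) ↥(centralizer ({x} : Set G))) ≤ B) :
    Nat.card (PiClasses π G) ≤ Nat.card (PiClasses ({r} : Set ℕ) G) * B := by
  classical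
  let rep : ConjClasses G → G := fun c => Classical.choose (ConjClasses.mk_surjective c)
  have hrep : ∀ c, ConjClasses.mk (rep c) = c := fun c =>
    Classical.choose_spec (ConjClasses.mk_surjective c)
  let D : PiClasses ({r} : Set ℕ) G → Type u := fun c =>
    PiClasses (π \ {r}) ↥(centralizer ({rep c.1} : Set G))
  let repD : ∀ c, D c → ↥(centralizer ({rep c.1} : Set G)) := fun _ d =>
    Classical.choose (ConjClasses.mk_surjective d.1)
  have hrepD : ∀ c (d : D c), ConjClasses.mk (repD c d) = d.1 := fun _ d =>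
    Classical.choose_spec (ConjClasses.mk_surjective d.1)
  have key : ∀ e : PiClasses π G, ∃ cd : Σ c, D c,
      ConjClasses.mk (rep cd.1.1 * (repD cd.1 cd.2 : G)) = e.1 := by
    rintro ⟨e, he⟩
    obtain ⟨g, rfl⟩ := ConjClasses.mk_surjective e
    obtain ⟨x, y, hxy, hcomm, hx, hy⟩ := exists_split hr (he g ConjClasses.mem_carrier_mk)
    let c : PiClasses ({r} : Set ℕ) G := ⟨ConjClasses.mk x, mk_prop hx⟩
    obtain ⟨h, hh⟩ := isConj_iff.mp (ConjClasses.mk_eq_mk_iff_isConj.mp (hrep c.1).symm)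
    have hy'C : h * y * h⁻¹ ∈ centralizer ({rep c.1} : Set G) := by
      rw [mem_centralizer_singleton_iff, ← hh]
      have := hcomm.eq
      calc h * y * h⁻¹ * (h * x * h⁻¹) = h * (y * x) * h⁻¹ := by group
        _ = h * (x * y) * h⁻¹ := by rw [this]
        _ = h * x * h⁻¹ * (h * y * h⁻¹) := by group
    let y' : ↥(centralizer ({rep c.1} : Set G)) := ⟨_, hy'C⟩
    have hy' : IsPiEl (π \ {r}) y' := by
      intro q hq hd
      apply hy q hq
      rwa [← Subgroup.orderOf_coe, orderOf_conj_eq] at hd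
    let d : D c := ⟨ConjClasses.mk y', mk_prop hy'⟩
    refine ⟨⟨c, d⟩, ?_⟩
    obtain ⟨w, hw⟩ := isConj_iff.mp (ConjClasses.mk_eq_mk_iff_isConj.mp (hrepD c d).symm)
    rw [ConjClasses.mk_eq_mk_iff_isConj]
    refine (isConj_iff.mpr ⟨(w : G) * h, ?_⟩).symm
    have hwc := mem_centralizer_singleton_iff.mp w.2
    have hwy : ((w : G) * (h * y * h⁻¹) * (w : G)⁻¹) = (repD c d : G) :=
      congrArg (fun z : ↥(centralizer ({rep c.1} : Set G)) => (z : G)) hw
    have hwx : (w : G) * (h * x * h⁻¹) * (w : G)⁻¹ = rep c.1 := by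
      rw [hh, hwc]; group
    show (w : G) * h * g * ((w : G) * h)⁻¹ = rep c.1 * (repD c d : G)
    calc (w : G) * h * g * ((w : G) * h)⁻¹
        = ((w : G) * (h * x * h⁻¹) * (w : G)⁻¹) * ((w : G) * (h * y * h⁻¹) * (w : G)⁻¹) := by
          rw [← hxy]; group
      _ = _ := by rw [hwx, hwy]
  choose F hF using key
  have hinj : Function.Injective F := fun a b hab => Subtype.ext (by rw [← hF a, ← hF b, hab])
  haveI : Fintype (PiClasses ({r} : Set ℕ) G) := Fintype.ofFinite _
  calc Nat.card (PiClasses π G) ≤ Nat.card (Σ c, D c) := Nat.card_le_card_of_injective F hinj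
    _ = ∑ c, Nat.card (D c) := Nat.card_sigma
    _ ≤ ∑ _c : PiClasses ({r} : Set ℕ) G, B := Finset.sum_le_sum fun c _ => hB _
    _ = _ := by simp [Nat.card_eq_fintype_card]

/-- Every `r`-class meets a Sylow `r`-subgroup. -/
lemma exists_mem_sylow {G : Type u} [Group G] [Finite G] {r : ℕ} [hr : Fact r.Prime]
    (P : Sylow r G) (c : PiClasses ({r} : Set ℕ) G) :
    ∃ x ∈ (P : Subgroup G), ConjClasses.mk x = c.1 := by
  obtain ⟨g, hg⟩ := ConjClasses.mk_surjective c.1
  obtain ⟨k, hk⟩ := (isPiEl_singleton_iff hr.out).mp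
    (c.2 g (ConjClasses.mem_carrier_iff_mk_eq.mpr hg))
  have hQ : IsPGroup r (zpowers g) := IsPGroup.of_card (n := k) (by rw [Nat.card_zpowers, hk])
  obtain ⟨Q, hQ'⟩ := hQ.exists_le_sylow
  obtain ⟨h, hh⟩ := MulAction.exists_smul_eq G Q P
  refine ⟨h * g * h⁻¹, ?_, ?_⟩
  · rw [← hh]
    exact Subgroup.smul_mem_pointwise_smul g (MulAut.conj h) _ (hQ' (mem_zpowers g))
  · rw [← hg]
    exact ConjClasses.mk_eq_mk_iff_isConj.mpr (isConj_iff.mpr ⟨h, rfl⟩).symm

/-- The class map of a Sylow subgroup. -/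
def sylowToClass {G : Type u} [Group G] [Finite G] {r : ℕ} [hr : Fact r.Prime] (P : Sylow r G)
    (x : ↥(P : Subgroup G)) : PiClasses ({r} : Set ℕ) G :=
  ⟨ConjClasses.mk (x : G), mk_prop ((isPiEl_singleton_iff hr.out).mpr
    ⟨_, (IsPGroup.iff_orderOf.mp P.2 x).choose_spec ▸ (Subgroup.orderOf_coe x)⟩)⟩

lemma sylowToClass_surjective {G : Type u} [Group G] [Finite G] {r : ℕ} [Fact r.Prime]
    (P : Sylow r G) : Function.Surjective (sylowToClass P) := fun c => by
  obtain ⟨x, hx, h⟩ := exists_mem_sylow P c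
  exact ⟨⟨x, hx⟩, Subtype.ext h⟩

lemma card_piClasses_singleton_le {G : Type u} [Group G] [Finite G] {r : ℕ} [Fact r.Prime]
    (P : Sylow r G) :
    Nat.card (PiClasses ({r} : Set ℕ) G) ≤ Nat.card ↥(P : Subgroup G) :=
  Nat.card_le_card_of_surjective _ (sylowToClass_surjective P)

lemma prod_part_mono {H G : ℕ} (hG : G ≠ 0) (hd : H ∣ G) (π : Finset ℕ) :
    π.prod (fun r => r ^ H.factorization r) ≤ π.prod (fun r => r ^ G.factorization r) := by
  refine Finset.prod_le_prod' fun r _ => ?_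
  rcases Nat.eq_zero_or_pos r with rfl | hr
  · simp [Nat.factorization_eq_zero_of_not_prime _ Nat.not_prime_zero]
  · exact Nat.pow_le_pow_right hr
      ((Nat.factorization_le_iff_dvd (ne_zero_of_dvd_ne_zero hG hd) hG).mpr hd r)

/-- `k_π(G) ≤ |G|_π`. -/
theorem card_piClasses_le (π : Finset ℕ) (hπ : ∀ r ∈ π, r.Prime) :
    ∀ (G : Type u) [Group G] [Finite G],
      Nat.card (PiClasses (π : Set ℕ) G) ≤ π.prod (fun r => r ^ (Nat.card G).factorization r) := by
  induction π using Finset.induction with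
  | empty =>
    intro G _ _
    haveI : Subsingleton (PiClasses ((∅ : Finset ℕ) : Set ℕ) G) := by
      suffices h : ∀ c : PiClasses ((∅ : Finset ℕ) : Set ℕ) G, c.1 = ConjClasses.mk 1 from
        ⟨fun a b => Subtype.ext ((h a).trans (h b).symm)⟩
      intro c
      obtain ⟨g, hg⟩ := ConjClasses.mk_surjective c.1
      have h1 := c.2 g (ConjClasses.mem_carrier_iff_mk_eq.mpr hg)
      have : orderOf g = 1 := by
        by_contra hne
        obtain ⟨q, hq, hd⟩ := Nat.exists_prime_and_dvd hne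
        simpa using h1 q hq hd
      rw [← hg, orderOf_eq_one_iff.mp this]
    simpa using Finite.card_le_one_iff_subsingleton.mpr this
  | insert r π hrπ ih =>
    intro G _ _
    have hr : r.Prime := hπ r (Finset.mem_insert_self _ _)
    haveI := Fact.mk hr
    have hset : ((insert r π : Finset ℕ) : Set ℕ) \ {r} = (π : Set ℕ) := by
      ext q
      simp only [Finset.coe_insert, Set.mem_sdiff, Set.mem_insert_iff, Set.mem_singleton_iff,
        Finset.mem_coe]
      constructor
      · rintro ⟨h | h, h'⟩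
        · exact absurd h h'
        · exact h
      · intro h
        exact ⟨Or.inr h, fun e => hrπ (e ▸ h)⟩
    have h1 := card_piClasses_le_mul (G := G) (π := ((insert r π : Finset ℕ) : Set ℕ)) hr
      (π.prod (fun q => q ^ (Nat.card G).factorization q)) (fun x => by
        rw [hset]
        exact (ih (fun q hq => hπ q (Finset.mem_insert_of_mem hq)) _).trans
          (prod_part_mono Nat.card_pos.ne' (Subgroup.card_subgroup_dvd_card _) π))
    refine h1.trans ?_
    rw [Finset.prod_insert hrπ]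
    have P : Sylow r G := default
    exact Nat.mul_le_mul_right _ ((card_piClasses_singleton_le P).trans
      P.card_eq_multiplicity.le)

/-- `k_π(G) ≤ k_r(G) |G|_{π - r}`. -/
theorem card_piClasses_le_mul_part (π : Finset ℕ) (hπ : ∀ q ∈ π, q.Prime) {r : ℕ} (hr : r ∈ π)
    (G : Type u) [Group G] [Finite G] :
    Nat.card (PiClasses (π : Set ℕ) G) ≤ Nat.card (PiClasses ({r} : Set ℕ) G) *
      (π.erase r).prod (fun q => q ^ (Nat.card G).factorization q) := by
  refine card_piClasses_le_mul (hπ r hr) _ fun x => ?_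
  have : ((π : Set ℕ) \ {r}) = ((π.erase r : Finset ℕ) : Set ℕ) := by simp
  rw [this]
  exact (card_piClasses_le _ (fun q hq => hπ q (Finset.mem_of_mem_erase hq)) _).trans
    (prod_part_mono Nat.card_pos.ne' (Subgroup.card_subgroup_dvd_card _) _)

end CfsgLib.ClassCount
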