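import Cfsg.Prelude.Def_Transfer
import Cfsg.Agent.ClassCount.PiElements

/-!
Many classes of `r`-elements force an abelian Sylow subgroup that is central in its normaliser.
-/

set_option autoImplicit false

open Subgroup

namespace CfsgLib.ClassCount

universe u

lemma fibre_bound {α β : Type u} [Finite α] [Finite β] (f : α → β) (hf : Function.Surjective f)
    (m : ℕ) (Z : Set α) (h : ∀ x ∉ Z, m ≤ Nat.card {y // f y = f x}) :
    m * Nat.card β ≤ Nat.card α + (m - 1) * Nat.card Z := by
  classical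
  haveI := Fintype.ofFinite α
  haveI := Fintype.ofFinite β
  simp only [Nat.card_eq_fintype_card] at *
  let B1 : Finset β := Finset.univ.filter fun b => ∃ x ∈ Z, f x = b
  have hB1 : B1.card ≤ Fintype.card Z := by
    rw [← Set.toFinset_card]
    refine le_trans (Finset.card_le_card ?_) (Finset.card_image_le (f := f))
    intro b hb
    simpa [B1] using hb
  have hsum : Fintype.card α = ∑ b : β, (Finset.univ.filter fun a => f a = b).card := by
    rw [← Finset.card_univ]
    exact Finset.card_eq_sum_card_fiberwise fun a _ => Finset.mem_univ _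
  have hpt : ∀ b : β, m ≤ (Finset.univ.filter fun a => f a = b).card +
      (if b ∈ B1 then m - 1 else 0) := by
    intro b
    by_cases hb : b ∈ B1
    · rw [if_pos hb]
      obtain ⟨x, rfl⟩ := hf b
      have : 0 < (Finset.univ.filter fun a => f a = f x).card :=
        Finset.card_pos.mpr ⟨x, by simp⟩
      omega
    · rw [if_neg hb, add_zero]
      obtain ⟨x, rfl⟩ := hf b
      have hx : x ∉ Z := fun hx => hb (by simp [B1]; exact ⟨x, hx, rfl⟩)
      have := h x hx
      rwa [Fintype.card_subtype] at this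
  calc m * Fintype.card β = ∑ _b : β, m := by simp [mul_comm]
    _ ≤ ∑ b : β, ((Finset.univ.filter fun a => f a = b).card +
          (if b ∈ B1 then m - 1 else 0)) := Finset.sum_le_sum fun b _ => hpt b
    _ = Fintype.card α + B1.card * (m - 1) := by
        rw [Finset.sum_add_distrib, ← hsum, Finset.sum_ite_mem, Finset.univ_inter,
          Finset.sum_const, smul_eq_mul]
    _ ≤ _ := by
        rw [mul_comm B1.card]
        exact Nat.add_le_add_left (Nat.mul_le_mul_left _ hB1) _

/-- The set of `H`-conjugates of `x`. -/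
def conjOrb {G : Type u} [Group G] (H : Subgroup G) (x : G) : Set G :=
  {y | ∃ n ∈ H, n * x * n⁻¹ = y}

lemma card_conjOrb {G : Type u} [Group G] (H : Subgroup G) (x : G) :
    Nat.card (conjOrb H x) = ((centralizer ({x} : Set G)).subgroupOf H).index := by
  refine (Nat.card_congr ?_).symm
  refine Equiv.ofBijective (fun q => Quotient.liftOn' q
    (fun n => (⟨(n : G) * x * (n : G)⁻¹, n, n.2, rfl⟩ : conjOrb H x)) ?_) ⟨?_, ?_⟩
  · intro a b hab
    rw [QuotientGroup.leftRel_apply, Subgroup.mem_subgroupOf, mem_centralizer_singleton_iff] at hab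
    push_cast at hab
    refine Subtype.ext ?_
    calc (a : G) * x * (a : G)⁻¹ = (a : G) * (x * ((a : G)⁻¹ * b)) * (b : G)⁻¹ := by group
      _ = (a : G) * (((a : G)⁻¹ * b) * x) * (b : G)⁻¹ := by rw [hab]
      _ = (b : G) * x * (b : G)⁻¹ := by group
  · intro a b hab
    induction a using Quotient.inductionOn' with | h a => ?_
    induction b using Quotient.inductionOn' with | h b => ?_
    apply Quotient.sound'
    rw [QuotientGroup.leftRel_apply, Subgroup.mem_subgroupOf, mem_centralizer_singleton_iff]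
    push_cast
    have h : (a : G) * x * (a : G)⁻¹ = (b : G) * x * (b : G)⁻¹ := congrArg Subtype.val hab
    calc (a : G)⁻¹ * b * x = (a : G)⁻¹ * ((b : G) * x * (b : G)⁻¹) * b := by group
      _ = (a : G)⁻¹ * ((a : G) * x * (a : G)⁻¹) * b := by rw [h]
      _ = x * ((a : G)⁻¹ * b) := by group
  · rintro ⟨y, n, hn, rfl⟩
    exact ⟨Quotient.mk'' ⟨n, hn⟩, rfl⟩

lemma centralizer_subgroupOf_index_ne_one {G : Type u} [Group G] {H : Subgroup G} {x n : G}
    (hn : n ∈ H) (hne : n * x ≠ x * n) :
    ((centralizer ({x} : Set G)).subgroupOf H).index ≠ 1 := by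
  rw [Ne, Subgroup.index_eq_one, Subgroup.subgroupOf_eq_top]
  exact fun h => hne (mem_centralizer_singleton_iff.mp (h hn))

variable {G : Type u} [Group G] [Finite G] {r : ℕ} [hr : Fact r.Prime] (P : Sylow r G)

lemma card_conjOrb_le_fibre (H : Subgroup G) (hH : H ≤ normalizer ((P : Subgroup G) : Set G))
    (x : ↥(P : Subgroup G)) :
    Nat.card (conjOrb H (x : G)) ≤
      Nat.card {y : ↥(P : Subgroup G) // sylowToClass P y = sylowToClass P x} := by
  have hmem : ∀ y ∈ conjOrb H (x : G), y ∈ (P : Subgroup G) := by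
    rintro y ⟨n, hn, rfl⟩
    exact (mem_normalizer_iff.mp (hH hn) _).mp x.2
  refine Nat.card_le_card_of_injective (fun y => ⟨⟨y.1, hmem _ y.2⟩, ?_⟩) fun a b h => ?_
  · obtain ⟨n, -, hy⟩ := y.2
    refine Subtype.ext ?_
    exact (ConjClasses.mk_eq_mk_iff_isConj.mpr (isConj_iff.mpr ⟨n, hy⟩)).symm
  · exact Subtype.ext (congrArg (fun z => (z.1 : G)) h)

/-- `P` nonabelian: `r k_r ≤ |P| + (r-1)|Z(P)|` and `r² |Z(P)| ≤ |P|`. -/
lemma nonabelian_bound (hP : ¬ IsMulCommutative ↥(P : Subgroup G)) :
    ∃ z : ℕ, r ^ 2 * z ≤ Nat.card ↥(P : Subgroup G) ∧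
      r * Nat.card (PiClasses ({r} : Set ℕ) G) ≤ Nat.card ↥(P : Subgroup G) + (r - 1) * z := by
  refine ⟨Nat.card (center ↥(P : Subgroup G)), ?_, ?_⟩
  · obtain ⟨a, ha⟩ := (IsPGroup.iff_card.mp (P.2.to_quotient (center ↥(P : Subgroup G))))
    rw [← Subgroup.card_mul_index (center ↥(P : Subgroup G)),
      mul_comm (Nat.card (center ↥(P : Subgroup G))), Subgroup.index, ha]
    refine Nat.mul_le_mul_right _ (Nat.pow_le_pow_right hr.out.pos ?_)
    by_contra h2
    apply hP
    haveI : IsCyclic (↥(P : Subgroup G) ⧸ center ↥(P : Subgroup G)) := by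
      rcases Nat.le_one_iff_eq_zero_or_eq_one.mp (Nat.lt_succ_iff.mp (not_le.mp h2)) with h0 | h1
      · rw [h0, pow_zero] at ha
        haveI := (Nat.card_eq_one_iff_unique.mp ha).1
        exact isCyclic_of_subsingleton
      · rw [h1, pow_one] at ha
        exact isCyclic_of_prime_card ha
    exact ⟨⟨commutative_of_cyclic_center_quotient (QuotientGroup.mk' (center ↥(P : Subgroup G)))
      (by rw [QuotientGroup.ker_mk'])⟩⟩
  · refine fibre_bound _ (sylowToClass_surjective P) r _ fun x hx => ?_
    refine le_trans ?_ (card_conjOrb_le_fibre P _ le_normalizer x)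
    rw [card_conjOrb]
    obtain ⟨a, ha⟩ := P.2.index ((centralizer ({(x : G)} : Set G)).subgroupOf (P : Subgroup G))
    rw [ha]
    rcases Nat.eq_zero_or_pos a with rfl | h0
    · exfalso
      apply hx
      rw [pow_zero, Subgroup.index_eq_one, Subgroup.subgroupOf_eq_top] at ha
      exact Subgroup.mem_center_iff.mpr fun y =>
        Subtype.ext (mem_centralizer_singleton_iff.mp (ha y.2))
    · exact Nat.le_self_pow h0.ne' r

/-- `P` abelian with `N(P)` not centralising `P`, all nontrivial `N(P)`-orbits on `P` of size at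
least `m`: `m k_r ≤ |P| + (m-1) z` with `r z ≤ |P|`. -/
lemma abelian_bound (hN : ¬ normalizer ((P : Subgroup G) : Set G) ≤
      centralizer ((P : Subgroup G) : Set G)) (m : ℕ)
    (hm : ∀ x : ↥(P : Subgroup G),
      ((centralizer ({(x : G)} : Set G)).subgroupOf (normalizer ((P : Subgroup G) : Set G))).index ≠ 1 →
      m ≤ ((centralizer ({(x : G)} : Set G)).subgroupOf (normalizer ((P : Subgroup G) : Set G))).index) :
    ∃ z : ℕ, r * z ≤ Nat.card ↥(P : Subgroup G) ∧
      m * Nat.card (PiClasses ({r} : Set ℕ) G) ≤ Nat.card ↥(P : Subgroup G) + (m - 1) * z := by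
  let N : Subgroup G := normalizer ((P : Subgroup G) : Set G)
  let Z : Subgroup ↥(P : Subgroup G) := (centralizer (N : Set G)).subgroupOf (P : Subgroup G)
  refine ⟨Nat.card Z, ?_, ?_⟩
  · obtain ⟨a, ha⟩ := P.2.index Z
    rw [← Subgroup.card_mul_index Z, mul_comm (Nat.card Z), ha]
    refine Nat.mul_le_mul_right _ (Nat.le_self_pow ?_ r)
    rintro rfl
    apply hN
    rw [pow_zero, Subgroup.index_eq_one, Subgroup.subgroupOf_eq_top] at ha
    exact le_centralizer_iff.mp ha
  · refine fibre_bound _ (sylowToClass_surjective P) m (Z : Set ↥(P : Subgroup G)) fun x hx => ?_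
    refine le_trans ?_ (card_conjOrb_le_fibre P N le_rfl x)
    rw [card_conjOrb]
    apply hm
    obtain ⟨n, hn, hne⟩ : ∃ n ∈ N, n * (x : G) ≠ (x : G) * n := by
      by_contra hc
      push_neg at hc
      exact hx (Subgroup.mem_subgroupOf.mpr (mem_centralizer_iff.mpr fun n hn => hc n hn))
    exact centralizer_subgroupOf_index_ne_one hn hne

/-- Burnside: an abelian Sylow subgroup central in its normaliser has a normal complement. -/
lemma hasNormalPComplement_of_central
    (hN : normalizer ((P : Subgroup G) : Set G) ≤ centralizer ((P : Subgroup G) : Set G)) :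
    Cfsg.HasNormalPComplement r G :=
  ⟨P, _, inferInstance, MonoidHom.ker_transferSylow_isComplement' P hN⟩

/-- For odd `r`, `2 r k_r > (r+1)|P|` forces an abelian Sylow subgroup and a normal complement. -/
theorem complement_of_many_classes (hr2 : r ≠ 2)
    (h : (r + 1) * Nat.card ↥(P : Subgroup G) < 2 * r * Nat.card (PiClasses ({r} : Set ℕ) G)) :
    Cfsg.HasNormalPComplement r G ∧ IsMulCommutative ↥(P : Subgroup G) := by
  have h3 : 3 ≤ r := by have := hr.out.two_le; omega
  have hC : IsMulCommutative ↥(P : Subgroup G) := by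
    by_contra hC
    obtain ⟨z, hz, hk⟩ := nonabelian_bound P hC
    have hP0 : 0 < Nat.card ↥(P : Subgroup G) := Nat.card_pos
    obtain ⟨s, rfl⟩ : ∃ s, r = s + 3 := ⟨r - 3, by omega⟩
    rw [show s + 3 - 1 = s + 2 by omega] at hk
    set X := Nat.card ↥(P : Subgroup G) with hX
    set K := Nat.card (PiClasses ({s + 3} : Set ℕ) G) with hKdef
    have key : (s + 3) ^ 2 * ((s + 4) * X) < (2 * (s + 3) ^ 2 + 2 * (s + 2)) * X :=
      calc (s + 3) ^ 2 * ((s + 4) * X) < (s + 3) ^ 2 * (2 * (s + 3) * K) :=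
            Nat.mul_lt_mul_of_pos_left h (by positivity)
        _ = (2 * (s + 3) ^ 2) * ((s + 3) * K) := by ring
        _ ≤ (2 * (s + 3) ^ 2) * (X + (s + 2) * z) := Nat.mul_le_mul_left _ hk
        _ = 2 * (s + 3) ^ 2 * X + 2 * (s + 2) * ((s + 3) ^ 2 * z) := by ring
        _ ≤ 2 * (s + 3) ^ 2 * X + 2 * (s + 2) * X := Nat.add_le_add_left (Nat.mul_le_mul_left _ hz) _
        _ = (2 * (s + 3) ^ 2 + 2 * (s + 2)) * X := by ring
    rw [← mul_assoc] at key
    have := Nat.lt_of_mul_lt_mul_right key
    nlinarith [sq_nonneg s, Nat.zero_le (s ^ 3)]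
  refine ⟨hasNormalPComplement_of_central P ?_, hC⟩
  by_contra hN
  obtain ⟨z, hz, hk⟩ := abelian_bound P hN 2 fun x hx => by
    have := Subgroup.index_ne_zero_of_finite (H := (centralizer ({(x : G)} : Set G)).subgroupOf
      (normalizer ((P : Subgroup G) : Set G)))
    omega
  nlinarith

end CfsgLib.ClassCount
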