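import Cfsg.Prelude.Def_OddOrderLocal
import Cfsg.Agent.ClassCount.SylowClasses

/-!
Intersecting normal `r`-complements for the primes `r` of a set `π`.
-/

set_option autoImplicit false

open Subgroup
open scoped commutatorElement

namespace CfsgLib.ClassCount

universe u

lemma exists_normal_of_hasNormalPComplement {G : Type u} [Group G] [Finite G] {r : ℕ}
    [Fact r.Prime] (h : Cfsg.HasNormalPComplement r G) :
    ∃ (N : Subgroup G) (P : Sylow r G), N.Normal ∧ ¬ r ∣ Nat.card N ∧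
      (∀ q : ℕ, q.Prime → q ∣ N.index → q = r) ∧ N.IsComplement' (P : Subgroup G) := by
  obtain ⟨P, N, hN, hc⟩ := h
  refine ⟨N, P, hN, hc.index_eq_card ▸ P.not_dvd_index, fun q hq hd => ?_, hc⟩
  obtain ⟨k, hk⟩ := IsPGroup.iff_card.mp P.2
  rw [hc.symm.index_eq_card, hk] at hd
  exact (Nat.prime_dvd_prime_iff_eq hq Fact.out).mp (hq.dvd_of_dvd_pow hd)

lemma commutatorElement_mem_of_complement {G : Type u} [Group G] {N P : Subgroup G}
    [N.Normal] (hc : N.IsComplement' P) (hP : IsMulCommutative P) (a b : G) :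
    ⁅a, b⁆ ∈ N := by
  obtain ⟨⟨u, v⟩, rfl⟩ := hc.2 a
  obtain ⟨⟨u', v'⟩, rfl⟩ := hc.2 b
  rw [← QuotientGroup.eq_one_iff, ← QuotientGroup.mk'_apply, map_commutatorElement,
    commutatorElement_eq_one_iff_commute]
  have h0 : ∀ w : N, QuotientGroup.mk' N (w : G) = 1 := fun w =>
    (QuotientGroup.eq_one_iff _).mpr w.2
  simp only [map_mul, h0, one_mul]
  show QuotientGroup.mk' N (v : G) * QuotientGroup.mk' N (v' : G) =
    QuotientGroup.mk' N (v' : G) * QuotientGroup.mk' N (v : G)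
  rw [← map_mul, ← map_mul]
  exact congrArg (QuotientGroup.mk' N) (congrArg Subtype.val (hP.1.comm v v'))

/-- Normal `r`-complements with abelian Sylow subgroups for every `r ∈ π` intersect in a normal
`π`-complement containing all commutators. -/
lemma exists_pi_complement {G : Type u} [Group G] [Finite G] (π : Finset ℕ)
    (hπ : ∀ r ∈ π, r.Prime) (h : ∀ r ∈ π, Cfsg.HasNormalPComplement r G)
    (hab : ∀ r ∈ π, ∀ P : Sylow r G, IsMulCommutative ↥(P : Subgroup G)) :
    ∃ N : Subgroup G, N.Normal ∧ (∀ r : ℕ, r.Prime → r ∣ Nat.card N → r ∉ π) ∧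
      (∀ r : ℕ, r.Prime → r ∣ N.index → r ∈ π) ∧ ∀ a b : G, ⁅a, b⁆ ∈ N := by
  classical
  induction π using Finset.induction with
  | empty => exact ⟨⊤, inferInstance, by simp, fun r hr hd => by simp [hr.ne_one] at hd,
      fun a b => mem_top _⟩
  | insert r π hrπ ih =>
    obtain ⟨N, hN, h1, h2, h3⟩ := ih (fun q hq => hπ q (Finset.mem_insert_of_mem hq))
      (fun q hq => h q (Finset.mem_insert_of_mem hq))
      (fun q hq => hab q (Finset.mem_insert_of_mem hq))
    haveI := Fact.mk (hπ r (Finset.mem_insert_self _ _))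
    obtain ⟨M, P, hM, m1, m2, m3⟩ :=
      exists_normal_of_hasNormalPComplement (h r (Finset.mem_insert_self _ _))
    refine ⟨M ⊓ N, inferInstance, fun q hq hd hmem => ?_, fun q hq hd => ?_, fun a b => ?_⟩
    · rcases Finset.mem_insert.mp hmem with rfl | hmem
      · exact m1 (hd.trans (card_dvd_of_le inf_le_left))
      · exact h1 q hq (hd.trans (card_dvd_of_le inf_le_right)) hmem
    · rw [← relIndex_mul_index (inf_le_left : M ⊓ N ≤ M), inf_relIndex_left] at hd
      rcases hq.dvd_mul.mp hd with hd | hd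
      · exact Finset.mem_insert_of_mem (h2 q hq (hd.trans (relIndex_dvd_index_of_normal N M)))
      · exact m2 q hq hd ▸ Finset.mem_insert_self _ _
    · exact mem_inf.mpr ⟨commutatorElement_mem_of_complement m3
        (hab r (Finset.mem_insert_self _ _) P) a b, h3 a b⟩

/-- Normal `r`-complements with abelian Sylow subgroups for every `r ∈ π` give an abelian Hall
`π`-subgroup. -/
theorem exists_abelian_hall {G : Type u} [Group G] [Finite G] (π : Finset ℕ)
    (hπ : ∀ r ∈ π, r.Prime) (h : ∀ r ∈ π, Cfsg.HasNormalPComplement r G)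
    (hab : ∀ r ∈ π, ∀ P : Sylow r G, IsMulCommutative ↥(P : Subgroup G)) :
    (∃ N : Subgroup G, N.Normal ∧ (∀ r : ℕ, r.Prime → r ∣ Nat.card N → r ∉ π) ∧
      ∀ r : ℕ, r.Prime → r ∣ N.index → r ∈ π) ∧
    ∃ H : Subgroup G, Cfsg.IsPiHall (↑π : Set ℕ) H ∧ IsMulCommutative ↥H := by
  obtain ⟨N, hN, h1, h2, h3⟩ := exists_pi_complement π hπ h hab
  refine ⟨⟨N, hN, h1, h2⟩, ?_⟩
  have hcop : Nat.Coprime (Nat.card N) N.index :=
    Nat.coprime_of_dvd fun q hq d1 d2 => h1 q hq d1 (h2 q hq d2)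
  obtain ⟨H, hH⟩ := exists_right_complement'_of_coprime hcop
  refine ⟨H, ⟨fun q hq hd => h2 q hq (hH.symm.index_eq_card ▸ hd),
    fun q hq hmem hd => h1 q hq (hH.index_eq_card ▸ hd) hmem⟩, ⟨⟨fun a b => ?_⟩⟩⟩
  have h0 : ⁅(a : G), (b : G)⁆ = 1 := by
    have hmemH : ⁅(a : G), (b : G)⁆ ∈ H := by
      rw [commutatorElement_def]
      exact mul_mem (mul_mem (mul_mem a.2 b.2) (inv_mem a.2)) (inv_mem b.2)
    simpa using hH.disjoint.le_bot (mem_inf.mpr ⟨h3 _ _, hmemH⟩)
  exact Subtype.ext (commutatorElement_eq_one_iff_commute.mp h0)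

end CfsgLib.ClassCount
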